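import Cfsg.Agent.H806.PQ.Hur
import Cfsg.Agent.H678.PV.RowHe

/-!
# `He` : `¬ PQ 7 q` for `q = 2, 3` (helper806, for S4612)

An element of order 7 has the centraliser `7 × L₃(2)`.
-/

set_option autoImplicit false
set_option maxRecDepth 100000

universe u

namespace Cfsg.Agent.H806.PQ.HePQ

open Subgroup Cfsg Cfsg.Agent.H358.A3
open Cfsg.Spor.He (Gen)
open Cfsg.Agent.SporadicB.HePerm (act wd)
open Cfsg.Agent.FixBN.HeStab Cfsg.Agent.KFacts.He.Lv Cfsg.Agent.CpAutHe.Cnt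
open Cfsg.Agent.H492.IMHeCnt Cfsg.Agent.H492.IMHeDat Cfsg.Agent.H492.IMTools
open Cfsg.Agent.H492.IMHe (o2 o7)

/-- the product, of order 7 -/
def Y : List Gen := YB7 ++ [.d, .f, .g, .d, .f, .g]

theorem oY : orderOf (wd Y) = 7 := orderOf_of (by decide) (by decide +kernel)

theorem oB : orderOf (wd (.a :: Y)) = 3 := orderOf_of (by decide) (by decide +kernel)

theorem finite_he : Finite Cfsg.Spor.He := Nat.finite_of_card_ne_zero (by rw [card_he]; norm_num)

theorem not_PQ {q : ℕ} (hq : q.Prime) (hq7 : q ≠ 7) (hqd : q ∣ 168) : ¬ PQ 7 q Cfsg.Spor.He := by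
  have hfin := finite_he
  refine not_PQ_of_hurwitz (x := wd XB7) (a := wd [.a]) (b := wd (.a :: Y)) o7 Cfsg.Agent.CpAutHe.Bound.card0
    (comm_of_chk (by decide +kernel)) (comm_of_chk (by decide +kernel)) o2 oB ?_ hq hq7 hqd
  have h1 : wd [.a] * wd (.a :: Y) = wd Y := by
    rw [← wd_append]
    exact eq_of_chkB (by decide +kernel)
  rw [h1]
  exact oY

/-- **`¬ PQ 7 3 He`, `¬ PQ 7 2 He`.** -/
theorem not_PQ_he {S : Type u} [Group S] (h : Spor.IsoHe S) {q : ℕ} (hq : q.Prime) (hq7 : q ≠ 7) (hqd : q ∣ 168) :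
    ¬ PQ 7 q S := by
  obtain ⟨e⟩ := h
  have hfin := finite_he
  have : Finite S := Finite.of_equiv _ e.symm.toEquiv
  exact fun hP => not_PQ hq hq7 hqd (PQ.of_equiv e hP)

end Cfsg.Agent.H806.PQ.HePQ
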