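import Cfsg.Agent.H329.K4.He
import Cfsg.Agent.H492.IMHe

/-!
# `He` : the value 11 of the character of degree 51 at the involution `a` (helper806, for S4612)
-/

set_option autoImplicit false
set_option maxRecDepth 100000

namespace Cfsg.Agent.H806.PQ.HeVal

open Cfsg Cfsg.Spor Cfsg.Spor.He Cfsg.Agent.SporadicB.HePerm Cfsg.Agent.H636.Gow Cfsg.Agent.H707.Odd
open Cfsg.Agent.H707.Odd.He Cfsg.Agent.H329.K4 Cfsg.Agent.H329.K4.Orb Cfsg.Agent.H329.K4.He
open Cfsg.Agent.FixBN.HeStab Cfsg.Agent.Characters.Core Subgroup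
open Cfsg.Agent.H492.IMHeCnt Cfsg.Agent.H492.IMHeDat Cfsg.Agent.H492.IMTools Cfsg.Agent.KFacts.He.Lv
open scoped ComplexConjugate

attribute [local instance] Cfsg.Agent.H707.Odd.He.instActHe

/-- the numbers of the points `x` with `(x, a x)` of a given class -/
def ka : Fin 5 → ℕ := ![154, 224, 1680, 0, 0]

theorem ka_check : ∀ j : Fin 5,
    Nat.beq (cnt (fun x => Nat.beq (labN (walk 17 x (act [.a] x))) j) 2058) (ka j) = true := by decide +kernel

/-- a system of elements moving the points to `0` -/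
theorem exists_s : ∃ s : Fin 2058 → Cfsg.Spor.He, (∀ x, s x • (0 : Fin 2058) = x) ∧
    ∀ x y : Fin 2058, (((s x)⁻¹ • y : Fin 2058) : ℕ) = walk 17 x y := by
  choose k hk using walk_spec 17
  refine ⟨fun x => (k x)⁻¹, fun x => ?_, fun x y => ?_⟩
  · have h0 : k x • x = (0 : Fin 2058) := by
      apply Fin.ext
      rw [smul_eq, hk]
      exact Nat.eq_of_beq_eq_true (of_allBelow chkWalk x x.2)
    show (k x)⁻¹ • (0 : Fin 2058) = x
    rw [← h0, inv_smul_smul]
  · show (((k x)⁻¹⁻¹ • y : Fin 2058) : ℕ) = _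
    rw [inv_inv, smul_eq, hk]

/-- **The value of a character of degree 51 at the involution `a`.** -/
theorem val_a {w : ℂ} {χ : Cfsg.Spor.He → ℂ} (h : Val (0 : Fin 2058) cls (a51 w) 51 χ) : χ (wd [.a])⁻¹ = (11 : ℤ) := by
  classical
  obtain ⟨s, hs, hw⟩ := exists_s
  have h1 := h.val s hs (wd [.a])⁻¹
  rw [inv_inv, Fintype.card_fin] at h1
  have h2 : ∑ x : Fin 2058, a51 w (cls ((s x)⁻¹ • wd [.a] • x)) = ∑ i : Fin 5, (ka i : ℂ) * a51 w i := by
    rw [← Finset.sum_fiberwise Finset.univ (fun x : Fin 2058 => cls ((s x)⁻¹ • wd [.a] • x))]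
    refine Finset.sum_congr rfl fun i _ => ?_
    have h3 : ∀ x ∈ Finset.univ.filter (fun x : Fin 2058 => cls ((s x)⁻¹ • wd [.a] • x) = i),
        a51 w (cls ((s x)⁻¹ • wd [.a] • x)) = a51 w i := fun x hx => by rw [(Finset.mem_filter.1 hx).2]
    rw [Finset.sum_congr rfl h3, Finset.sum_const, nsmul_eq_mul]
    congr 2
    rw [← Nat.eq_of_beq_eq_true (ka_check i), ← card_filter_fin]
    congr 1
    ext x
    rw [Finset.mem_filter, Finset.mem_filter, Fin.ext_iff, cls_val, hw, smul_eq, phi_wd_apply]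
    rw [beq_iff]
  rw [h2] at h1
  simp only [ka, a51, Fin.sum_univ_five, Matrix.cons_val, Nat.cast_ofNat, Nat.cast_zero] at h1
  have h4 : (2058 : ℂ) * χ (wd [.a])⁻¹ = 2058 * 11 := by
    rw [h1]
    ring
  have h5 := mul_left_cancel₀ (by norm_num : (2058 : ℂ) ≠ 0) h4
  rw [h5]
  norm_num

/-- two commuting elements of order 3 commuting with `a` -/
def XA : List Gen := [.e, .c, .f, .d, .c, .f]

/-- the second one -/
def YA : List Gen := [.g, .c, .e, .c, .d, .g]

theorem nine_dvd : 9 ∣ Nat.card (centralizer ({(wd [.a])⁻¹} : Set Cfsg.Spor.He)) := by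
  obtain ⟨hfin, -⟩ := Cfsg.Agent.SporadicB.HeUpper.card_he_le
  have : Fact (Nat.Prime 3) := ⟨by norm_num⟩
  have hmem : ∀ {g : Cfsg.Spor.He}, g * wd [.a] = wd [.a] * g → g ∈ centralizer ({(wd [.a])⁻¹} : Set Cfsg.Spor.He) := by
    intro g hg
    rw [mem_centralizer_singleton_iff]
    exact (Commute.inv_right (show Commute g (wd [.a]) from hg)).eq
  have hX : orderOf (wd XA) = 3 := orderOf_of (by decide) (by decide +kernel)
  have hY : orderOf (wd YA) = 3 := orderOf_of (by decide) (by decide +kernel)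
  exact Cfsg.Agent.H492.IMHe.sq_dvd (p := 3) hX hY (comm_of_chk (by decide +kernel))
    (not_mem_zpowers_of (by norm_num) hX (by decide +kernel)) _ (hmem (comm_of_chk (by decide +kernel)))
    (hmem (comm_of_chk (by decide +kernel)))

end Cfsg.Agent.H806.PQ.HeVal
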