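import Cfsg.Agent.H642.PQ.Full

/-!
# A class test with a multiplier (helper806, for S4612)
-/

set_option autoImplicit false

open Cfsg

namespace Cfsg.Agent.H806.PQ

open Cfsg.Agent.Blocks.Basic Cfsg.Agent.Blocks.Local Cfsg.Agent.H317.PQ Cfsg.Agent.H642.PQ

universe u

variable {G : Type u} [Group G] {p : ℕ}

/-- `χ` in the principal `p`-block: `p` divides the integer `e |G : C(g)| (χ(1) - χ(g)) / χ(1)` -/
theorem class_test_mul [Finite G] (hp : p.Prime) {χ : IrrCharacter G} (h : χ ∈ B0 p G) (g : G) {d v c e : ℤ}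
    (hd : (χ : G → ℂ) 1 = d) (hv : (χ : G → ℂ) g = v)
    (hc : c * d = e * (((Subgroup.centralizer ({g} : Set G)).index : ℤ) * (d - v))) : (p : ℤ) ∣ c := by
  have : Fact p.Prime := ⟨hp⟩
  obtain ⟨M, hM⟩ := Blocks.ExistsModular.exists_isPModular hp
  have hMp : M.IsPrime := isPrime_of_isPModular hM
  rw [B0_eq hp hM] at h
  have h1 := memLocalIdeal_mul_right (h g) (memLocalRing_intCast e)
  have hd0 : (d : ℂ) ≠ 0 := by
    rw [← hd]
    exact irr_one_ne_zero χ.2
  have h2 : (centralChar (fun _ : G => (1 : ℂ)) g - centralChar (χ : G → ℂ) g) * (e : ℂ) = (c : ℂ) := by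
    have hc' : (c : ℂ) * d = e * (((Subgroup.centralizer ({g} : Set G)).index : ℂ) * (d - v)) := by exact_mod_cast hc
    unfold centralChar
    rw [hd, hv]
    field_simp
    linear_combination -hc'
  rw [h2] at h1
  exact int_dvd_of_mem hM h1

end Cfsg.Agent.H806.PQ
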