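import Cfsg.Agent.H806.PQ.L27
import Cfsg.Agent.H101.PQ.Own

/-!
# `¬ PQ 7 q G` from a Hurwitz pair in a small centraliser of an element of order 7 (helper806, for S4612)
-/

set_option autoImplicit false

open Cfsg Subgroup Cfsg.Agent.H358.A3 Cfsg.Agent.H101.PQ

namespace Cfsg.Agent.H806.PQ

universe u

theorem not_PQ_of_hurwitz {G : Type u} [Group G] [Finite G] {x a b : G} (hx : orderOf x = 7)
    (hc : Nat.card (centralizer ({x} : Set G)) ≤ 1176) (ax : a * x = x * a) (bx : b * x = x * b) (ha : orderOf a = 2)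
    (hb : orderOf b = 3) (hab : orderOf (a * b) = 7) {q : ℕ} (hq : q.Prime) (hq7 : q ≠ 7) (hqd : q ∣ 168) :
    ¬ PQ 7 q G := by
  intro hP
  have h7 : Nat.Prime 7 := by norm_num
  have hP1 : PQ 7 q (centralizer ({x} : Set G)) := PQ.centralizer h7 hq (Ne.symm hq7) hP ⟨1, by rw [hx, pow_one]⟩
  have hxC : x ∈ centralizer ({x} : Set G) := mem_centralizer_singleton_iff.2 rfl
  have haC : a ∈ centralizer ({x} : Set G) := mem_centralizer_singleton_iff.2 ax
  have hbC : b ∈ centralizer ({x} : Set G) := mem_centralizer_singleton_iff.2 bx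
  let N : Subgroup (centralizer ({x} : Set G)) := zpowers ⟨x, hxC⟩
  have hNZ : N ≤ center (centralizer ({x} : Set G)) := by
    rw [zpowers_le]
    rw [mem_center_iff]
    intro g
    exact Subtype.ext (mem_centralizer_singleton_iff.1 g.2)
  have hNn : N.Normal := ⟨fun n hn g => by
    have h := mem_center_iff.1 (hNZ hn) g
    rw [h, mul_inv_cancel_right]
    exact hn⟩
  have hNc : Nat.card N = 7 := by
    rw [Nat.card_zpowers, ← hx]
    exact orderOf_injective (centralizer ({x} : Set G)).subtype Subtype.val_injective ⟨x, hxC⟩ |>.symm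
  have hcq : Nat.card (centralizer ({x} : Set G)) = Nat.card (centralizer ({x} : Set G) ⧸ N) * 7 := by
    rw [← hNc]
    exact card_eq_card_quotient_mul_card_subgroup N
  let π := QuotientGroup.mk' N
  have h1 : π ⟨a, haC⟩ ≠ 1 := by
    intro h
    have h2 : (⟨a, haC⟩ : centralizer ({x} : Set G)) ∈ N := (QuotientGroup.eq_one_iff _).1 h
    have h3 : orderOf (⟨a, haC⟩ : centralizer ({x} : Set G)) ∣ 7 := by
      have := orderOf_dvd_natCard (⟨⟨a, haC⟩, h2⟩ : N)
      rw [hNc] at this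
      rwa [← orderOf_injective N.subtype Subtype.val_injective ⟨⟨a, haC⟩, h2⟩] at this
    rw [← orderOf_injective (centralizer ({x} : Set G)).subtype Subtype.val_injective ⟨a, haC⟩] at h3
    change orderOf a ∣ 7 at h3
    rw [ha] at h3
    norm_num at h3
  have h2 : (π ⟨a, haC⟩) ^ 2 = 1 := by
    rw [← map_pow, ← ha]
    have : (⟨a, haC⟩ : centralizer ({x} : Set G)) ^ orderOf a = 1 := Subtype.ext (pow_orderOf_eq_one a)
    rw [this, map_one]
  have h3 : (π ⟨b, hbC⟩) ^ 3 = 1 := by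
    rw [← map_pow, ← hb]
    have : (⟨b, hbC⟩ : centralizer ({x} : Set G)) ^ orderOf b = 1 := Subtype.ext (pow_orderOf_eq_one b)
    rw [this, map_one]
  have h4 : (π ⟨a, haC⟩ * π ⟨b, hbC⟩) ^ 7 = 1 := by
    rw [← map_mul, ← map_pow, ← hab]
    have : ((⟨a, haC⟩ : centralizer ({x} : Set G)) * ⟨b, hbC⟩) ^ orderOf (a * b) = 1 :=
      Subtype.ext (pow_orderOf_eq_one (a * b))
    rw [this, map_one]
  obtain ⟨hL, h168⟩ := lieType_of_hurwitz (Q := centralizer ({x} : Set G) ⧸ N) (by omega) h2 h3 h4 h1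
  have hker : π.ker = N := QuotientGroup.ker_mk' N
  have hP2 : PQ 7 q (centralizer ({x} : Set G) ⧸ N) := by
    refine PQ.map_central h7 hq (Ne.symm hq7) hP1 π (QuotientGroup.mk'_surjective N) ?_
    rw [hker]
    exact hNZ
  exact not_PQ_own h7 hq hq7 hL (by rw [h168]; exact hqd) hP2

end Cfsg.Agent.H806.PQ
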