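import Cfsg.Agent.H101.PQ.Own
import Cfsg.Agent.Lib.VonDyck
import Cfsg.Agent.S0253

/-!
# `¬ PQ 5 q G` from a pair of type (2,3,5) in a small centraliser of an element of order 5 (helper806, for S4612)
-/

set_option autoImplicit false

open Cfsg Subgroup Cfsg.Agent.H358.A3 Cfsg.Agent.H101.PQ

namespace Cfsg.Agent.H806.PQ

universe u

theorem isLie_of_alt {Q : Type u} [Group Q] (e : Q ≃* alternatingGroup (Fin 5)) : IsLieTypeChar 5 Q := by
  have : Fact (Nat.Prime 5) := ⟨by norm_num⟩
  obtain ⟨f⟩ := S0253.result (F := ZMod 5) (ZMod.card 5)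
  exact Or.inl ⟨ZMod 5, inferInstance, inferInstance, inferInstance, 2, le_rfl, fun _ => by
    rw [ZMod.card]
    norm_num, ⟨e.trans f.symm⟩⟩

theorem card_alt_five : Nat.card (alternatingGroup (Fin 5)) = 60 := by
  rw [nat_card_alternatingGroup, Nat.card_eq_fintype_card, Fintype.card_fin]
  rfl

theorem not_PQ_of_icos {G : Type u} [Group G] [Finite G] {x a b : G} (hx : orderOf x = 5)
    (hc : Nat.card (centralizer ({x} : Set G)) ≤ 300) (ax : a * x = x * a) (bx : b * x = x * b) (ha : a ^ 2 = 1)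
    (hb : b ^ 3 = 1) (hab : (a * b) ^ 5 = 1) (ha1 : a ≠ 1) {q : ℕ} (hq : q.Prime) (hq5 : q ≠ 5) (hqd : q ∣ 60) :
    ¬ PQ 5 q G := by
  intro hP
  have h5 : Nat.Prime 5 := by norm_num
  have hP1 : PQ 5 q (centralizer ({x} : Set G)) := PQ.centralizer h5 hq (Ne.symm hq5) hP ⟨1, by rw [hx, pow_one]⟩
  have hxC : x ∈ centralizer ({x} : Set G) := mem_centralizer_singleton_iff.2 rfl
  have haC : a ∈ centralizer ({x} : Set G) := mem_centralizer_singleton_iff.2 ax
  have hbC : b ∈ centralizer ({x} : Set G) := mem_centralizer_singleton_iff.2 bx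
  let N : Subgroup (centralizer ({x} : Set G)) := zpowers ⟨x, hxC⟩
  have hNZ : N ≤ center (centralizer ({x} : Set G)) := by
    rw [zpowers_le]
    rw [mem_center_iff]
    intro g
    exact Subtype.ext (mem_centralizer_singleton_iff.1 g.2)
  have hNn : N.Normal := ⟨fun n hn g => by
    have h := mem_center_iff.1 (hNZ hn) g
    rw [h, mul_inv_cancel_right]
    exact hn⟩
  have hNc : Nat.card N = 5 := by
    rw [Nat.card_zpowers, ← hx]
    exact orderOf_injective (centralizer ({x} : Set G)).subtype Subtype.val_injective ⟨x, hxC⟩ |>.symm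
  have hcq : Nat.card (centralizer ({x} : Set G)) = Nat.card (centralizer ({x} : Set G) ⧸ N) * 5 := by
    rw [← hNc]
    exact card_eq_card_quotient_mul_card_subgroup N
  let π := QuotientGroup.mk' N
  have h1 : π ⟨a, haC⟩ ≠ 1 := by
    intro h
    have h2 : (⟨a, haC⟩ : centralizer ({x} : Set G)) ∈ N := (QuotientGroup.eq_one_iff _).1 h
    have h3 : (⟨⟨a, haC⟩, h2⟩ : N) ^ 5 = 1 := by
      rw [← hNc]
      exact pow_card_eq_one'
    have h4 : a ^ 5 = 1 := congrArg (fun z : N => ((z : centralizer ({x} : Set G)) : G)) h3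
    have h6 : a ^ 5 = (a ^ 2) ^ 2 * a := by group
    rw [ha, one_pow, one_mul] at h6
    exact ha1 (h6.symm.trans h4)
  have h2 : (π ⟨a, haC⟩) ^ 2 = 1 := by
    rw [← map_pow]
    have : (⟨a, haC⟩ : centralizer ({x} : Set G)) ^ 2 = 1 := Subtype.ext ha
    rw [this, map_one]
  have h3 : (π ⟨b, hbC⟩) ^ 3 = 1 := by
    rw [← map_pow]
    have : (⟨b, hbC⟩ : centralizer ({x} : Set G)) ^ 3 = 1 := Subtype.ext hb
    rw [this, map_one]
  have h4 : (π ⟨a, haC⟩ * π ⟨b, hbC⟩) ^ 5 = 1 := by
    rw [← map_mul, ← map_pow]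
    have : ((⟨a, haC⟩ : centralizer ({x} : Set G)) * ⟨b, hbC⟩) ^ 5 = 1 := Subtype.ext hab
    rw [this, map_one]
  obtain ⟨e⟩ := Lib.VonDyck.closure_equiv_alternatingFive h2 h3 h4 (Or.inl h1)
  have h60 : Nat.card (closure {π ⟨a, haC⟩, π ⟨b, hbC⟩} : Subgroup (centralizer ({x} : Set G) ⧸ N)) = 60 := by
    rw [Nat.card_congr e.toEquiv, card_alt_five]
  have hle : Nat.card (closure {π ⟨a, haC⟩, π ⟨b, hbC⟩} : Subgroup (centralizer ({x} : Set G) ⧸ N)) ≤
      Nat.card (centralizer ({x} : Set G) ⧸ N) := Nat.le_of_dvd Nat.card_pos (card_subgroup_dvd_card _)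
  have hQ : Nat.card (centralizer ({x} : Set G) ⧸ N) = 60 := by omega
  have htop : (closure {π ⟨a, haC⟩, π ⟨b, hbC⟩} : Subgroup (centralizer ({x} : Set G) ⧸ N)) = ⊤ :=
    eq_top_of_card_eq _ (by rw [h60, hQ])
  have f : (centralizer ({x} : Set G) ⧸ N) ≃* alternatingGroup (Fin 5) :=
    (topEquiv.symm.trans (MulEquiv.subgroupCongr htop.symm)).trans e
  have hker : π.ker = N := QuotientGroup.ker_mk' N
  have hP2 : PQ 5 q (centralizer ({x} : Set G) ⧸ N) := by
    refine PQ.map_central h5 hq (Ne.symm hq5) hP1 π (QuotientGroup.mk'_surjective N) ?_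
    rw [hker]
    exact hNZ
  exact not_PQ_own h5 hq hq5 (isLie_of_alt f) (by rw [hQ]; exact hqd) hP2

/-- `x` of prime order `p`, `|C(x)| = p q ^ k`, `k ≠ 0` : `¬ PQ p q G` -/
theorem not_PQ_of_cent {G : Type u} [Group G] [Finite G] {p q k : ℕ} (hp : p.Prime) (hq : q.Prime) (hpq : p ≠ q)
    (hk : k ≠ 0) {x : G} (hx : orderOf x = p) (hc : Nat.card (centralizer ({x} : Set G)) = p * q ^ k) :
    ¬ PQ p q G := by
  intro hP
  have : Fact q.Prime := ⟨hq⟩
  have : Fact p.Prime := ⟨hp⟩
  have hP1 : PQ p q (centralizer ({x} : Set G)) := PQ.centralizer hp hq hpq hP ⟨1, by rw [hx, pow_one]⟩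
  have hxC : x ∈ centralizer ({x} : Set G) := mem_centralizer_singleton_iff.2 rfl
  let Q : Sylow q (centralizer ({x} : Set G)) := default
  have hcop : ¬ q ∣ p := fun h => hpq ((Nat.prime_dvd_prime_iff_eq hq hp).1 h).symm
  have hQ : Nat.card Q = q ^ k := by
    rw [Q.card_eq_multiplicity, hc, Nat.factorization_mul hp.ne_zero (pow_ne_zero _ hq.ne_zero), Finsupp.add_apply,
      Nat.factorization_eq_zero_of_not_dvd hcop, zero_add, Nat.factorization_pow, Finsupp.smul_apply,
      hq.factorization_self, smul_eq_mul, mul_one]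
  have hn : ((Q : Subgroup (centralizer ({x} : Set G))) : Subgroup (centralizer ({x} : Set G))).Normal := by
    have h1 : (Q : Subgroup (centralizer ({x} : Set G))) ≤
        normalizer ((Q : Subgroup (centralizer ({x} : Set G))) : Set (centralizer ({x} : Set G))) := le_normalizer
    have h2 : zpowers (⟨x, hxC⟩ : centralizer ({x} : Set G)) ≤
        normalizer ((Q : Subgroup (centralizer ({x} : Set G))) : Set (centralizer ({x} : Set G))) := by
      rw [zpowers_le, mem_normalizer_iff]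
      intro h
      have h3 : (⟨x, hxC⟩ : centralizer ({x} : Set G)) * h = h * ⟨x, hxC⟩ :=
        Subtype.ext (mem_centralizer_singleton_iff.1 h.2).symm
      rw [h3, mul_inv_cancel_right]
    have h3 : p ∣ Nat.card (normalizer ((Q : Subgroup (centralizer ({x} : Set G))) : Set (centralizer ({x} : Set G)))) := by
      have h4 := card_dvd_of_le h2
      rwa [Nat.card_zpowers, Subgroup.orderOf_mk, hx] at h4
    have h4 : q ^ k ∣ Nat.card (normalizer ((Q : Subgroup (centralizer ({x} : Set G))) : Set (centralizer ({x} : Set G)))) := by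
      have h5 := card_dvd_of_le h1
      rwa [show Nat.card (Q : Subgroup (centralizer ({x} : Set G))) = q ^ k from hQ] at h5
    have h5 : p * q ^ k ∣ Nat.card (normalizer ((Q : Subgroup (centralizer ({x} : Set G))) : Set (centralizer ({x} : Set G)))) :=
      Nat.Coprime.mul_dvd_of_dvd_of_dvd
        (Nat.Coprime.pow_right k ((Nat.coprime_primes hp hq).2 hpq)) h3 h4
    have h6 : normalizer ((Q : Subgroup (centralizer ({x} : Set G))) : Set (centralizer ({x} : Set G))) = ⊤ := by
      apply eq_top_of_card_eq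
      apply Nat.dvd_antisymm (card_subgroup_dvd_card _)
      rw [hc]
      exact h5
    exact normalizer_eq_top_iff.1 h6
  have h7 : ¬ p ∣ Nat.card (Q : Subgroup (centralizer ({x} : Set G))) := by
    rw [show Nat.card (Q : Subgroup (centralizer ({x} : Set G))) = q ^ k from hQ]
    intro h
    exact hpq ((Nat.prime_dvd_prime_iff_eq hp hq).1 (hp.dvd_of_dvd_pow h))
  refine PQ.core hp hq hpq hP1 (Q : Subgroup (centralizer ({x} : Set G))) h7 ?_
  rw [show Nat.card (Q : Subgroup (centralizer ({x} : Set G))) = q ^ k from hQ]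
  exact dvd_pow_self q hk

end Cfsg.Agent.H806.PQ
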