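import Cfsg.Agent.H655.PrimeNormal
import Cfsg.Agent.S0495
import Cfsg.Agent.S0496
import Cfsg.Prelude.Def_LieTypeChar

/-!
# Groups of order at most 168 generated by a Hurwitz pair (helper806, for S4612)
-/

set_option autoImplicit false

open Cfsg Subgroup

namespace Cfsg.Agent.H806.PQ

universe u

/-- a group of order at most 168 with a nontrivial pair of type `(2, 3, 7)` is simple of order 168 -/
theorem simple_of_hurwitz {Q : Type u} [Group Q] [Finite Q] (hc : Nat.card Q ≤ 168) {a b : Q} (ha : a ^ 2 = 1)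
    (hb : b ^ 3 = 1) (hab : (a * b) ^ 7 = 1) (ha1 : a ≠ 1) : IsSimpleGroup Q ∧ Nat.card Q = 168 := by
  let R : Subgroup Q := closure ({a, b} : Set Q)
  have haR : a ∈ R := subset_closure (by simp)
  have hbR : b ∈ R := subset_closure (by simp)
  have hnt : Nontrivial R := ⟨⟨⟨a, haR⟩, 1, fun h => ha1 (congrArg Subtype.val h)⟩⟩
  obtain ⟨N, hN, hs⟩ := H655.PrimeNormal.exists_simple_quotient R
  set α : R ⧸ N := QuotientGroup.mk' N ⟨a, haR⟩ with hα
  set β : R ⧸ N := QuotientGroup.mk' N ⟨b, hbR⟩ with hβ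
  have e1 : α ^ 2 = 1 := by
    rw [hα, ← map_pow]
    have : (⟨a, haR⟩ : R) ^ 2 = 1 := Subtype.ext ha
    rw [this, map_one]
  have e2 : β ^ 3 = 1 := by
    rw [hβ, ← map_pow]
    have : (⟨b, hbR⟩ : R) ^ 3 = 1 := Subtype.ext hb
    rw [this, map_one]
  have e3 : (α * β) ^ 7 = 1 := by
    rw [hα, hβ, ← map_mul, ← map_pow]
    have : ((⟨a, haR⟩ : R) * ⟨b, hbR⟩) ^ 7 = 1 := Subtype.ext hab
    rw [this, map_one]
  -- the images generate
  have hgen : ∀ K : Subgroup (R ⧸ N), α ∈ K → β ∈ K → K = ⊤ := by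
    intro K h1 h2
    have h3 : (K.comap (QuotientGroup.mk' N)).map R.subtype = R := by
      apply le_antisymm
      · rintro _ ⟨x, -, rfl⟩
        exact x.2
      · rw [closure_le]
        rintro x (rfl | rfl)
        · exact ⟨⟨_, haR⟩, h1, rfl⟩
        · exact ⟨⟨_, hbR⟩, h2, rfl⟩
    rw [eq_top_iff]
    intro x _
    obtain ⟨y, rfl⟩ := QuotientGroup.mk'_surjective N x
    have h4 : (y : Q) ∈ (K.comap (QuotientGroup.mk' N)).map R.subtype := by rw [h3]; exact y.2
    obtain ⟨z, hz, hzy⟩ := h4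
    have h5 : z = y := Subtype.ext hzy
    rw [← h5]
    exact hz
  -- `α β ≠ 1`
  have hne : ¬ (α * β = 1) := by
    intro h
    have h1 : β = α⁻¹ := (inv_eq_of_mul_eq_one_right h).symm
    have h2 : β ^ 2 = 1 := by rw [h1, inv_pow, e1, inv_one]
    have h3 : β = 1 := by
      have : β ^ 3 = β ^ 2 * β := pow_succ β 2
      rw [h2, one_mul] at this
      rw [← this, e2]
    have h4 : α = 1 := by rw [h3, mul_one] at h; exact h
    have h5 := hgen ⊥ (by rw [h4]; exact one_mem _) (by rw [h3]; exact one_mem _)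
    exact bot_ne_top h5
  have hnc : ¬ IsMulCommutative (R ⧸ N) := by
    intro h
    have hcomm : Commute α β := h.is_comm.comm α β
    apply hne
    have h1 : (α * β) ^ 6 = 1 := by
      rw [hcomm.mul_pow, show 6 = 2 * 3 from rfl, pow_mul, e1, one_pow, mul_comm 2 3, pow_mul, e2, one_pow, mul_one]
    have h2 : (α * β) ^ 7 = (α * β) ^ 6 * (α * β) := pow_succ _ 6
    rw [h1, one_mul] at h2
    rw [← h2, e3]
  have h7 : 7 ∣ Nat.card (R ⧸ N) := by
    have : Fact (Nat.Prime 7) := ⟨by norm_num⟩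
    have h1 : orderOf (α * β) = 7 := orderOf_eq_prime e3 hne
    rw [← h1]
    exact orderOf_dvd_natCard _
  have hcard1 : Nat.card R ≤ Nat.card Q := Nat.le_of_dvd Nat.card_pos (card_subgroup_dvd_card R)
  have hcard2 : Nat.card R = Nat.card (R ⧸ N) * Nat.card N := card_eq_card_quotient_mul_card_subgroup N
  have hNpos : 0 < Nat.card N := Nat.card_pos
  have hle : Nat.card (R ⧸ N) ≤ Nat.card R := by
    rw [hcard2]
    exact Nat.le_mul_of_pos_right _ hNpos
  have h168 : Nat.card (R ⧸ N) = 168 := by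
    rcases S0496.result (G := R ⧸ N) hnc (by omega) with h | h | h | h | h | h <;> omega
  have hRQ : Nat.card R = Nat.card Q := by omega
  have hQ : Nat.card Q = 168 := by omega
  have hN1 : Nat.card N = 1 := by
    rw [hRQ, hQ, h168] at hcard2
    omega
  have hNbot : N = ⊥ := card_eq_one.1 hN1
  have hRtop : R = ⊤ := eq_top_of_card_eq R hRQ
  refine ⟨?_, hQ⟩
  subst hNbot
  let e : Q ≃* R ⧸ (⊥ : Subgroup R) :=
    (topEquiv.symm.trans (MulEquiv.subgroupCongr hRtop.symm)).trans (QuotientGroup.quotientBot (G := R)).symm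
  exact (MulEquiv.isSimpleGroup_congr e).2 hs

/-- ... hence of Lie type in characteristic 7 -/
theorem lieType_of_hurwitz {Q : Type u} [Group Q] [Finite Q] (hc : Nat.card Q ≤ 168) {a b : Q} (ha : a ^ 2 = 1)
    (hb : b ^ 3 = 1) (hab : (a * b) ^ 7 = 1) (ha1 : a ≠ 1) : IsLieTypeChar 7 Q ∧ Nat.card Q = 168 := by
  obtain ⟨hs, hcard⟩ := simple_of_hurwitz hc ha hb hab ha1
  have : Fact (Nat.Prime 7) := ⟨by norm_num⟩
  refine ⟨Or.inl ⟨ZMod 7, inferInstance, inferInstance, inferInstance, 2, le_rfl, ?_, ?_⟩, hcard⟩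
  · intro _
    rw [ZMod.card]
    norm_num
  · exact S0495.result hcard (ZMod.card 7)

end Cfsg.Agent.H806.PQ
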